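import Cfsg.Agent.Lib.Helper11.ZJ

set_option autoImplicit false
open Cfsg

/-!
# The centre of the subgroup generated by the `Q`-subgroups of maximal order
-/

namespace Cfsg.Agent.Lib.Helper11.ZJe

open Cfsg.Agent.Lib.Helper11
open scoped commutatorElement

variable {G : Type*} [Group G]

/-- the subgroup generated by the `Q`-subgroups of `P` of maximal order -/
def jE (Q : Subgroup G → Prop) (P : Subgroup G) : Subgroup G := sSup (famQ Q P)

/-- its centre -/
def zE (Q : Subgroup G → Prop) (P : Subgroup G) : Subgroup G :=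
  jE Q P ⊓ Subgroup.centralizer (jE Q P : Set G)

theorem le_jE {Q : Subgroup G → Prop} {P X : Subgroup G} (h : X ∈ famQ Q P) : X ≤ jE Q P :=
  le_sSup h

theorem jE_le {Q : Subgroup G → Prop} (P : Subgroup G) : jE Q P ≤ P :=
  sSup_le (fun _ hX => hX.1)

theorem jE_le_of_forall {Q : Subgroup G → Prop} {P R : Subgroup G}
    (h : ∀ X ∈ famQ Q P, X ≤ R) : jE Q P ≤ R := sSup_le h

theorem zE_le {Q : Subgroup G → Prop} (P : Subgroup G) : zE Q P ≤ P :=
  inf_le_left.trans (jE_le P)

theorem zE_le_jE {Q : Subgroup G → Prop} (P : Subgroup G) : zE Q P ≤ jE Q P := inf_le_left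

theorem zE_le_centralizer {Q : Subgroup G → Prop} (P : Subgroup G) :
    zE Q P ≤ Subgroup.centralizer (jE Q P : Set G) := inf_le_right

theorem zE_comm {Q : Subgroup G → Prop} (P : Subgroup G) :
    ∀ x ∈ zE Q P, ∀ y ∈ zE Q P, x * y = y * x := by
  intro x hx y hy
  have h1 := zE_le_centralizer P hx
  rw [Subgroup.mem_centralizer_iff] at h1
  exact (h1 y (zE_le_jE P hy)).symm

/-- elements of the centre commute with the members of the family -/
theorem zE_comm_mem {Q : Subgroup G → Prop} {P X : Subgroup G} (hX : X ∈ famQ Q P) :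
    ∀ z ∈ zE Q P, ∀ x ∈ X, x * z = z * x := by
  intro z hz x hx
  have h1 := zE_le_centralizer P hz
  rw [Subgroup.mem_centralizer_iff] at h1
  exact h1 x (le_jE hX hx)

theorem famQ_map_eq {Q : Subgroup G → Prop}
    (hmap : ∀ (φ : G ≃* G) (X : Subgroup G), Q X → Q (X.map φ.toMonoidHom)) (φ : G ≃* G)
    (P : Subgroup G) :
    famQ Q (P.map φ.toMonoidHom) = (fun X : Subgroup G => X.map φ.toMonoidHom) '' famQ Q P := by
  ext X
  constructor
  · intro hX
    refine ⟨X.map φ.symm.toMonoidHom, ?_, ?_⟩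
    · have := map_mem_famQ hmap φ.symm hX
      rwa [map_map_symm'] at this
    · have := map_map_symm' φ.symm X
      simpa using this
  · rintro ⟨Y, hY, rfl⟩
    exact map_mem_famQ hmap φ hY

theorem jE_map {Q : Subgroup G → Prop}
    (hmap : ∀ (φ : G ≃* G) (X : Subgroup G), Q X → Q (X.map φ.toMonoidHom)) (φ : G ≃* G)
    (P : Subgroup G) : jE Q (P.map φ.toMonoidHom) = (jE Q P).map φ.toMonoidHom := by
  unfold jE
  rw [famQ_map_eq hmap, sSup_image, sSup_eq_iSup, Subgroup.map_iSup]
  congr 1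
  funext X
  rw [Subgroup.map_iSup]

/-- `N_G(P)` normalizes `jE Q P`. -/
theorem normalizer_le_normalizer_jE {Q : Subgroup G → Prop}
    (hmap : ∀ (φ : G ≃* G) (X : Subgroup G), Q X → Q (X.map φ.toMonoidHom)) (P : Subgroup G) :
    Subgroup.normalizer (P : Set G) ≤ Subgroup.normalizer (jE Q P : Set G) := by
  intro g hg
  apply mem_normalizer_of_map_conj_eq'
  rw [← jE_map hmap, map_conj_eq_of_mem_normalizer' hg]

/-- the normalizer of a subgroup normalizes its centralizer -/
theorem normalizer_le_normalizer_centralizer (H : Subgroup G) :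
    Subgroup.normalizer (H : Set G) ≤
      Subgroup.normalizer ((Subgroup.centralizer (H : Set G) : Subgroup G) : Set G) := by
  intro g hg
  have key : ∀ g : G, g ∈ Subgroup.normalizer (H : Set G) → ∀ c ∈ Subgroup.centralizer (H : Set G),
      g * c * g⁻¹ ∈ Subgroup.centralizer (H : Set G) := by
    intro g hg c hc
    rw [Subgroup.mem_centralizer_iff] at hc ⊢
    intro h hh
    have h1 : g⁻¹ * h * g⁻¹⁻¹ ∈ H := (Subgroup.mem_normalizer_iff.mp (inv_mem hg) h).mp hh
    have h2 := hc _ h1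
    have e1 : h * (g * c * g⁻¹) = g * ((g⁻¹ * h * g⁻¹⁻¹) * c) * g⁻¹ := by group
    have e2 : g * c * g⁻¹ * h = g * (c * (g⁻¹ * h * g⁻¹⁻¹)) * g⁻¹ := by group
    rw [e1, e2, h2]
  rw [Subgroup.mem_normalizer_iff]
  intro c
  constructor
  · exact key g hg c
  · intro hc
    have := key g⁻¹ (inv_mem hg) _ hc
    have e : g⁻¹ * (g * c * g⁻¹) * g⁻¹⁻¹ = c := by group
    rwa [e] at this

/-- `N_G(P)` normalizes `zE Q P`. -/
theorem normalizer_le_normalizer_zE {Q : Subgroup G → Prop}
    (hmap : ∀ (φ : G ≃* G) (X : Subgroup G), Q X → Q (X.map φ.toMonoidHom)) (P : Subgroup G) :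
    Subgroup.normalizer (P : Set G) ≤ Subgroup.normalizer (zE Q P : Set G) := by
  intro g hg
  have h1 := normalizer_le_normalizer_jE hmap P hg
  exact mem_normalizer_inf h1 (normalizer_le_normalizer_centralizer _ h1)

/-- if all members lie in `P₁ ≤ P` then the families of `P` and `P₁` coincide -/
theorem famQ_eq_of_forall_le {Q : Subgroup G → Prop} {P P₁ : Subgroup G} (hP : P₁ ≤ P)
    (hne : (famQ Q P).Nonempty) (h : ∀ X ∈ famQ Q P, X ≤ P₁) : famQ Q P₁ = famQ Q P := by
  obtain ⟨A, hA⟩ := hne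
  have h1 := famQ_subset_of_le hP hA (h A hA)
  apply Set.Subset.antisymm h1.2
  intro X hX
  exact (famQ_subset_of_le hP hX (h X hX)).1

theorem jE_le_jE_of_le {Q : Subgroup G → Prop} {P P₁ A : Subgroup G} (hP : P₁ ≤ P)
    (hA : A ∈ famQ Q P) (hAP₁ : A ≤ P₁) : jE Q P₁ ≤ jE Q P :=
  sSup_le_sSup (famQ_subset_of_le hP hA hAP₁).2

end Cfsg.Agent.Lib.Helper11.ZJe
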