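import Cfsg.Agent.Lib.Helper11.ZJ

set_option autoImplicit false
open Cfsg

/-!
# A restricted form of the replacement theorem

Among the members of the family lying in a "bad" set `ℛ`, one with maximal intersection with `B`
is either normalized by `B`, or its replacement is a member outside `ℛ` normalizing it.
-/

namespace Cfsg.Agent.Lib.Helper11.ZJe

open Cfsg.Agent.Lib.Helper11
open scoped commutatorElement

section abstract

variable {S : Type*} [Group S]

theorem replacement_restricted [Finite S] {p : ℕ} [Fact p.Prime] (hS : IsPGroup p S) (hp : p ≠ 2)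
    (D : Subgroup S) [D.Normal] (Q : Subgroup S → Prop)
    (hQc : ∀ X, Q X → IsMulCommutative X)
    (hQstar : ∀ (A B : Subgroup S) (b : S), RSetup A B b → Q A → Q (rStar A b))
    (B : Subgroup S) [B.Normal]
    (𝒜 : Set (Subgroup S))
    (h𝒜 : ∀ X, X ∈ 𝒜 ↔ X ≤ D ∧ Q X ∧ ∀ Y, Y ≤ D → Q Y → Nat.card Y ≤ Nat.card X)
    (hBA : ∀ A ∈ 𝒜, ⁅B, B⁆ ≤ A)
    (ℛ : Set (Subgroup S))
    (hex : ∃ U ∈ 𝒜, U ∈ ℛ) :
    ∃ A ∈ 𝒜, A ∈ ℛ ∧ (B ≤ Subgroup.normalizer (A : Set S) ∨
      ∃ A' ∈ 𝒜, A' ∉ ℛ ∧ A' ≤ Subgroup.normalizer (A : Set S)) := by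
  classical
  let 𝒯 : Set (Subgroup S) := {A | A ∈ 𝒜 ∧ A ∈ ℛ}
  have h𝒯ne : 𝒯.Nonempty := by
    obtain ⟨U, hU, h1⟩ := hex
    exact ⟨U, hU, h1⟩
  obtain ⟨A, hA𝒯, hmax⟩ := Set.exists_max_image 𝒯 (fun A => Nat.card (A ⊓ B : Subgroup S))
    (Set.toFinite 𝒯) h𝒯ne
  obtain ⟨hA𝒜, hAℛ⟩ := hA𝒯
  refine ⟨A, hA𝒜, hAℛ, ?_⟩
  by_cases hnot : B ≤ Subgroup.normalizer (A : Set S)
  · exact Or.inl hnot
  right
  obtain ⟨hAD, hQA, hAmax⟩ := (h𝒜 A).mp hA𝒜
  have hAc := hQc A hQA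
  have hBAA := hBA A hA𝒜
  have hB2 : p = 2 → IsMulCommutative B := fun h => absurd h hp
  obtain ⟨b, hb, hbN, hbA⟩ := Cfsg.Agent.S0649.result hS B hB2 A hAc hBAA hnot
  have hset : RSetup A B b := by
    refine ⟨inferInstance, ?_, hBAA, hb, hbN⟩
    intro x hx y hy
    exact (Subgroup.le_centralizer_iff_isMulCommutative.mpr hAc hy x hx)
  have hcard := hset.card_rStar
  have hstar𝒜 : rStar A b ∈ 𝒜 := by
    rw [h𝒜]
    refine ⟨rStar_le_of_normal D A hAD b, hQstar A B b hset hQA, ?_⟩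
    intro Y hYD hQY
    rw [hcard]
    exact hAmax Y hYD hQY
  refine ⟨rStar A b, hstar𝒜, ?_, hset.rStar_le_N⟩
  intro hstarℛ
  obtain ⟨g, hg, hgA⟩ := hset.exists_rGens_not_mem hbA
  have hgK : g ∈ rK A b := Subgroup.subset_closure hg
  have hle : A ⊓ B ≤ rStar A b ⊓ B := le_inf (hset.inf_le_rZ.trans le_sup_left) inf_le_right
  have h1 := hmax _ ⟨hstar𝒜, hstarℛ⟩
  have heq := Subgroup.eq_of_le_of_card_ge hle h1
  apply hgA
  have : g ∈ rStar A b ⊓ B :=
    Subgroup.mem_inf.mpr ⟨le_sup_right (a := rZ A b) hgK, hset.rK_le_B hgK⟩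
  rw [← heq] at this
  exact (Subgroup.mem_inf.mp this).1

end abstract

variable {G : Type*} [Group G]

/-- The restricted replacement property, transported to subgroups of an ambient group. -/
theorem replacement_restricted_in [Finite G] {p : ℕ} [Fact p.Prime] (hp : p ≠ 2) (S : Subgroup G)
    (hS : IsPGroup p S) (Q : Subgroup G → Prop) (hQc : ∀ X, Q X → IsMulCommutative X)
    (hQstar : ∀ (A B : Subgroup ↥S) (b : ↥S), RSetup A B b → Q (A.map S.subtype) →
      Q ((rStar A b).map S.subtype))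
    (P B : Subgroup G) (hPS : P ≤ S) (hBS : B ≤ S)
    (hPn : S ≤ Subgroup.normalizer (P : Set G)) (hBn : S ≤ Subgroup.normalizer (B : Set G))
    (hBA : ∀ A ∈ famQ Q P, ⁅B, B⁆ ≤ A)
    (ℛ : Set (Subgroup G))
    (hex : ∃ U ∈ famQ Q P, U ∈ ℛ) :
    ∃ A ∈ famQ Q P, A ∈ ℛ ∧ (B ≤ Subgroup.normalizer (A : Set G) ∨
      ∃ A' ∈ famQ Q P, A' ∉ ℛ ∧ A' ≤ Subgroup.normalizer (A : Set G)) := by
  have hDn : (P.subgroupOf S).Normal := Subgroup.normal_subgroupOf_of_le_normalizer hPn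
  have hBn' : (B.subgroupOf S).Normal := Subgroup.normal_subgroupOf_of_le_normalizer hBn
  have hcard : ∀ X : Subgroup ↥S, Nat.card (X.map S.subtype) = Nat.card X := fun X =>
    Subgroup.card_map_of_injective S.subtype_injective
  have h𝒜 : ∀ X : Subgroup ↥S, X ∈ {X : Subgroup ↥S | X.map S.subtype ∈ famQ Q P} ↔
      X ≤ P.subgroupOf S ∧ Q (X.map S.subtype) ∧
        ∀ Y : Subgroup ↥S, Y ≤ P.subgroupOf S → Q (Y.map S.subtype) → Nat.card Y ≤ Nat.card X := by
    intro X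
    constructor
    · rintro ⟨h1, h2, h3⟩
      refine ⟨?_, h2, ?_⟩
      · intro x hx
        rw [Subgroup.mem_subgroupOf]
        exact h1 (Subgroup.mem_map_of_mem _ hx)
      · intro Y hY hQY
        have hY' : Y.map S.subtype ≤ P := by
          rintro _ ⟨y, hy, rfl⟩
          exact Subgroup.mem_subgroupOf.mp (hY hy)
        have := h3 _ hY' hQY
        rwa [hcard, hcard] at this
    · rintro ⟨h1, h2, h3⟩
      refine ⟨?_, h2, ?_⟩
      · rintro _ ⟨x, hx, rfl⟩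
        exact Subgroup.mem_subgroupOf.mp (h1 hx)
      · intro Y' hY' hQY'
        have hmapY : (Y'.subgroupOf S).map S.subtype = Y' :=
          Subgroup.map_subgroupOf_eq_of_le (hY'.trans hPS)
        have hYD : Y'.subgroupOf S ≤ P.subgroupOf S := by
          intro y hy
          rw [Subgroup.mem_subgroupOf] at hy ⊢
          exact hY' hy
        have := h3 (Y'.subgroupOf S) hYD (by rw [hmapY]; exact hQY')
        rwa [← hcard, hmapY, ← hcard X] at this
  have hBA' : ∀ A ∈ {X : Subgroup ↥S | X.map S.subtype ∈ famQ Q P},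
      ⁅B.subgroupOf S, B.subgroupOf S⁆ ≤ A := by
    intro A hA
    rw [Subgroup.commutator_le]
    intro x hx y hy
    rw [Subgroup.mem_subgroupOf] at hx hy
    have h1 : ⁅(x : G), (y : G)⁆ ∈ A.map S.subtype :=
      hBA _ hA (Subgroup.commutator_mem_commutator hx hy)
    obtain ⟨a, ha, hab⟩ := h1
    have : a = ⁅x, y⁆ := Subtype.ext hab
    rwa [← this]
  have hex' : ∃ U ∈ {X : Subgroup ↥S | X.map S.subtype ∈ famQ Q P},
      U ∈ {X : Subgroup ↥S | X.map S.subtype ∈ ℛ} := by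
    obtain ⟨U, hU, hUℛ⟩ := hex
    have hmapU : (U.subgroupOf S).map S.subtype = U :=
      Subgroup.map_subgroupOf_eq_of_le (hU.1.trans hPS)
    refine ⟨U.subgroupOf S, ?_, ?_⟩
    · show (U.subgroupOf S).map S.subtype ∈ famQ Q P
      rw [hmapU]; exact hU
    · show (U.subgroupOf S).map S.subtype ∈ ℛ
      rw [hmapU]; exact hUℛ
  obtain ⟨A', hA', hA'ℛ, hor⟩ := replacement_restricted (S := ↥S) hS hp (P.subgroupOf S)
    (fun X => Q (X.map S.subtype))
    (fun X hX => by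
      have h := hQc _ hX
      rw [← Subgroup.le_centralizer_iff_isMulCommutative] at h ⊢
      intro a ha
      rw [Subgroup.mem_centralizer_iff]
      intro b hb
      have h1 := h (Subgroup.mem_map_of_mem S.subtype ha)
      rw [Subgroup.mem_centralizer_iff] at h1
      have h2 := h1 _ (Subgroup.mem_map_of_mem S.subtype hb)
      exact Subtype.ext h2)
    hQstar (B.subgroupOf S) _ h𝒜 hBA' {X : Subgroup ↥S | X.map S.subtype ∈ ℛ} hex'
  have hnorm : ∀ (X Y : Subgroup ↥S), X ≤ Subgroup.normalizer (Y : Set ↥S) →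
      X.map S.subtype ≤ Subgroup.normalizer ((Y.map S.subtype : Subgroup G) : Set G) := by
    intro X Y hXY
    rintro _ ⟨x, hx, rfl⟩
    apply mem_normalizer_of_conj_mem
    rintro _ ⟨a, ha, rfl⟩
    have := (Subgroup.mem_normalizer_iff.mp (hXY hx) a).mp ha
    exact ⟨_, this, rfl⟩
  refine ⟨A'.map S.subtype, hA', hA'ℛ, ?_⟩
  rcases hor with hB | ⟨A'', hA'', hA''ℛ, hA''N⟩
  · left
    have := hnorm _ _ hB
    rwa [Subgroup.map_subgroupOf_eq_of_le hBS] at this
  · right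
    exact ⟨A''.map S.subtype, hA'', hA''ℛ, hnorm _ _ hA''N⟩

end Cfsg.Agent.Lib.Helper11.ZJe
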