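import Cfsg.Agent.Lib.Helper11.ZJe.Defs
import Cfsg.Agent.Lib.Helper11.ZJe.Repl
import Cfsg.Agent.Lib.Helper24.Omega1
import Cfsg.Agent.S0655

set_option autoImplicit false
set_option linter.unusedSectionVars false
set_option linter.style.haveILetI false
open Cfsg

/-!
# The ZJ-theorem for the full centre of the elementary abelian Thompson subgroup
-/

namespace Cfsg.Agent.Lib.Helper11.ZJe

open Cfsg.Agent.Lib.Helper11
open scoped commutatorElement

variable {G : Type*} [Group G]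

/-- the predicate "elementary abelian" -/
def Qe (p : ℕ) : Subgroup G → Prop := fun X => IsElementaryAbelian p X

theorem qe_bot (p : ℕ) : Qe p (⊥ : Subgroup G) := Cfsg.Agent.S0655.isElementaryAbelian_bot p

theorem qe_comm (p : ℕ) : ∀ X : Subgroup G, Qe p X → IsMulCommutative X := fun _ h => h.1

theorem qe_map (p : ℕ) : ∀ (φ : G ≃* G) (X : Subgroup G), Qe p X → Qe p (X.map φ.toMonoidHom) :=
  fun φ X hX => (isElementaryAbelian_map_of_injective p φ.toMonoidHom φ.injective X).mpr hX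

theorem qe_star [Finite G] {p : ℕ} [Fact p.Prime] (hp : p ≠ 2) (S : Subgroup G)
    (hS : IsPGroup p S) :
    ∀ (A B : Subgroup ↥S) (b : ↥S), RSetup A B b →
      Qe p (A.map S.subtype) → Qe p ((rStar A b).map S.subtype) := by
  have hodd : Odd p := (Fact.out : p.Prime).odd_of_ne_two hp
  intro A B b hset hA
  have hA' : IsElementaryAbelian p A :=
    (isElementaryAbelian_map_of_injective p _ S.subtype_injective A).mp hA
  apply (isElementaryAbelian_map_of_injective p _ S.subtype_injective _).mpr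
  exact ⟨hset.rStar_comm hS (fun h => absurd h hp),
    fun x hx => hset.rStar_pow hS (fun h => absurd h hp) p hodd hA'.2 hx⟩

/-- maximality: an element of order dividing `p` of `P` commuting with a member lies in it -/
theorem mem_of_commute_of_pow [Finite G] {p : ℕ} {P U : Subgroup G} (hU : U ∈ famQ (Qe p) P)
    {c : G} (hcP : c ∈ P) (hc : ∀ u ∈ U, u * c = c * u) (hcp : c ^ p = 1) : c ∈ U := by
  have hcent : c ∈ Subgroup.centralizer (U : Set G) := by
    rw [Subgroup.mem_centralizer_iff]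
    exact hc
  have hB := Cfsg.Agent.S0655.isElementaryAbelian_closure_insert p U hU.2.1 c hcent hcp
  have hle : U ≤ Subgroup.closure ((U : Set G) ∪ {c}) := fun a ha =>
    Subgroup.subset_closure (Or.inl ha)
  have hYP : Subgroup.closure ((U : Set G) ∪ {c}) ≤ P := by
    rw [Subgroup.closure_le]
    rintro y (hy | hy)
    · exact hU.1 hy
    · rw [Set.mem_singleton_iff] at hy; rw [hy]; exact hcP
  have hcard := hU.2.2 _ hYP hB
  have := Subgroup.eq_of_le_of_card_ge hle hcard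
  rw [this]
  exact Subgroup.subset_closure (Or.inr rfl)

/-- the subgroup generated by the elements of order dividing `p` -/
def om (p : ℕ) (B : Subgroup G) : Subgroup G := Subgroup.closure {x | x ∈ B ∧ x ^ p = 1}

theorem om_le (p : ℕ) (B : Subgroup G) : om p B ≤ B := by
  unfold om
  rw [Subgroup.closure_le]
  exact fun x hx => hx.1

theorem mem_om {p : ℕ} {B : Subgroup G} {x : G} (hx : x ∈ B) (hxp : x ^ p = 1) : x ∈ om p B :=
  Subgroup.subset_closure ⟨hx, hxp⟩

theorem om_normal (p : ℕ) (B : Subgroup G) [hB : B.Normal] : (om p B).Normal := by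
  constructor
  intro v hv g
  have h1 : (om p B).map (MulAut.conj g).toMonoidHom ≤ om p B := by
    unfold om
    rw [MonoidHom.map_closure, Subgroup.closure_le]
    rintro _ ⟨x, ⟨hxB, hxp⟩, rfl⟩
    apply Subgroup.subset_closure
    refine ⟨hB.conj_mem x hxB g, ?_⟩
    show (g * x * g⁻¹) ^ p = 1
    rw [conj_pow, hxp]; group
  exact h1 ⟨v, hv, rfl⟩

/-- **Ω₁-comparison**: for odd `p`, the preimage of `O_p(G / C_G(Ω₁(B)))` lies in the preimage
of `O_p(G / C_G(B))`. -/
theorem comap_pCore_om_le [Finite G] {p : ℕ} [Fact p.Prime] (hp : p ≠ 2) (B : Subgroup G)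
    [hB : B.Normal] (hBp : IsPGroup p B) (V : Subgroup G) [hV : V.Normal]
    (hVdef : ∀ x ∈ B, x ^ p = 1 → x ∈ V) :
    (pCore p (G ⧸ Subgroup.centralizer (V : Set G))).comap
        (QuotientGroup.mk' (Subgroup.centralizer (V : Set G))) ≤
      (pCore p (G ⧸ Subgroup.centralizer (B : Set G))).comap
        (QuotientGroup.mk' (Subgroup.centralizer (B : Set G))) := by
  have hp' : p.Prime := Fact.out
  obtain ⟨KV, hKV⟩ : ∃ KV : Subgroup G, KV = (pCore p (G ⧸ Subgroup.centralizer (V : Set G))).comap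
        (QuotientGroup.mk' (Subgroup.centralizer (V : Set G))) := ⟨_, rfl⟩
  rw [← hKV]
  have hKVn : KV.Normal := by rw [hKV]; infer_instance
  rw [← Subgroup.map_le_iff_le_comap]
  apply le_pCore (hKVn.map _ (QuotientGroup.mk'_surjective _))
  -- the image is a `p`-group
  rintro ⟨_, ⟨k, hk, rfl⟩⟩
  have hk' : (QuotientGroup.mk k : G ⧸ Subgroup.centralizer (V : Set G)) ∈
      pCore p (G ⧸ Subgroup.centralizer (V : Set G)) := by
    rw [hKV] at hk; exact hk
  obtain ⟨a, ha⟩ := pCore_isPGroup p (G ⧸ Subgroup.centralizer (V : Set G)) ⟨_, hk'⟩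
  have ha' : k ^ p ^ a ∈ Subgroup.centralizer (V : Set G) := by
    have h1 := congrArg Subtype.val ha
    simp only [Subgroup.coe_pow, Subgroup.coe_one] at h1
    rw [← QuotientGroup.mk_pow] at h1
    exact (QuotientGroup.eq_one_iff _).mp h1
  obtain ⟨c, hc⟩ : ∃ c : G, c = k ^ p ^ a := ⟨_, rfl⟩
  rw [← hc] at ha'
  have hord : orderOf c ≠ 0 := (orderOf_pos c).ne'
  obtain ⟨e, m, hm, hem⟩ := Nat.exists_eq_pow_mul_and_not_dvd hord p hp'.ne_one
  obtain ⟨c', hc'⟩ : ∃ c' : G, c' = c ^ p ^ e := ⟨_, rfl⟩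
  have hc'm : c' ^ m = 1 := by
    rw [hc', ← pow_mul, ← hem, pow_orderOf_eq_one]
  have hc'V : c' ∈ Subgroup.centralizer (V : Set G) := by
    rw [hc']; exact Subgroup.pow_mem _ ha' _
  have hcop : (Nat.card (Subgroup.zpowers c')).Coprime p := by
    rw [Nat.card_zpowers]
    have h1 : orderOf c' ∣ m := orderOf_dvd_of_pow_eq_one hc'm
    have h2 : m.Coprime p := ((Nat.Prime.coprime_iff_not_dvd hp').mpr hm).symm
    exact Nat.Coprime.coprime_dvd_left h1 h2
  have hAB : Subgroup.zpowers c' ≤ Subgroup.normalizer (B : Set G) := by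
    rw [Subgroup.normalizer_eq_top_iff.mpr hB]; exact le_top
  have hfix : ∀ x ∈ B, orderOf x = p → Subgroup.zpowers c' ≤ Subgroup.centralizer ({x} : Set G) := by
    intro x hx hox
    have hxp : x ^ p = 1 := by rw [← hox]; exact pow_orderOf_eq_one x
    have hxV : x ∈ V := hVdef x hx hxp
    rw [Subgroup.zpowers_le]
    exact Subgroup.centralizer_le (Set.singleton_subset_iff.mpr hxV) hc'V
  have hcent := Cfsg.Agent.Lib.Helper24.omega1_centralizer hp (Subgroup.zpowers c') B hcop hBp hAB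
    hfix
  have hc'B : c' ∈ Subgroup.centralizer (B : Set G) := hcent (Subgroup.mem_zpowers c')
  refine ⟨a + e, ?_⟩
  apply Subtype.ext
  simp only [Subgroup.coe_pow, Subgroup.coe_one]
  show ((QuotientGroup.mk' (Subgroup.centralizer (B : Set G))) k) ^ p ^ (a + e) = 1
  rw [← map_pow, pow_add, pow_mul, ← hc, ← hc']
  exact (QuotientGroup.eq_one_iff _).mpr hc'B

/-- commutators with a fixed element, in class two -/
theorem commutator_pow_eq_one_of_mem_om {p : ℕ} (B : Subgroup G)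
    (hcl : ∀ b ∈ B, ∀ c ∈ ⁅B, B⁆, b * c = c * b) {w : G} (hw : w ∈ B) :
    ∀ v ∈ om p B, ⁅v, w⁆ ^ p = 1 := by
  have hmem : ∀ v ∈ B, ⁅v, w⁆ ∈ ⁅B, B⁆ := fun v hv => Subgroup.commutator_mem_commutator hv hw
  have hB'comm : ∀ c ∈ ⁅B, B⁆, ∀ d ∈ ⁅B, B⁆, c * d = d * c := fun c hc d hd =>
    hcl c (Subgroup.commutator_le_self B hc) d hd
  have hmul : ∀ x ∈ B, ∀ y ∈ B, ⁅x * y, w⁆ = ⁅y, w⁆ * ⁅x, w⁆ := by
    intro x hx y hy
    have h1 : ⁅x * y, w⁆ = x * ⁅y, w⁆ * x⁻¹ * ⁅x, w⁆ := by
      simp only [commutatorElement_def]; group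
    rw [h1, hcl x hx _ (hmem y hy)]
    group
  intro v hv
  have key : v ∈ B ∧ ⁅v, w⁆ ^ p = 1 := by
    unfold om at hv
    induction hv using Subgroup.closure_induction with
    | mem x hx =>
      refine ⟨hx.1, ?_⟩
      have hpow : ∀ n : ℕ, ⁅x ^ n, w⁆ = ⁅x, w⁆ ^ n := by
        intro n
        induction n with
        | zero => simp
        | succ n ih =>
          rw [pow_succ, hmul _ (pow_mem hx.1 n) _ hx.1, ih, pow_succ']
      rw [← hpow, hx.2]
      simp
    | one => exact ⟨one_mem _, by simp⟩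
    | mul x y _ _ ihx ihy =>
      refine ⟨mul_mem ihx.1 ihy.1, ?_⟩
      rw [hmul x ihx.1 y ihy.1]
      have hc : Commute ⁅y, w⁆ ⁅x, w⁆ := hB'comm _ (hmem y ihy.1) _ (hmem x ihx.1)
      rw [hc.mul_pow, ihx.2, ihy.2, one_mul]
    | inv x _ ihx =>
      refine ⟨inv_mem ihx.1, ?_⟩
      have h1 : ⁅x⁻¹, w⁆ = x⁻¹ * ⁅x, w⁆⁻¹ * x := by
        simp only [commutatorElement_def]; group
      have h2 : x⁻¹ * ⁅x, w⁆⁻¹ = ⁅x, w⁆⁻¹ * x⁻¹ :=
        hcl _ (inv_mem ihx.1) _ (inv_mem (hmem x ihx.1))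
      rw [h1, h2, inv_mul_cancel_right, inv_pow, ihx.2, inv_one]
  exact key.2

end Cfsg.Agent.Lib.Helper11.ZJe
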