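import Cfsg.Agent.Lib.Helper11.ZJe.Key

set_option autoImplicit false
set_option linter.unusedSectionVars false
set_option linter.style.haveILetI false
set_option maxHeartbeats 800000
open Cfsg

/-!
# The ZJ-theorem for the full centre of the elementary abelian Thompson subgroup: main lemma
-/

namespace Cfsg.Agent.Lib.Helper11.ZJe

open Cfsg.Agent.Lib.Helper11
open scoped commutatorElement

variable {G : Type*} [Group G]

theorem zje_key [Finite G] {p : ℕ} [Fact p.Prime] (hp : p ≠ 2) (S : Sylow p G)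
    (hst : ∀ (V : Subgroup G) [V.Normal], IsPGroup p V → IsPStableOn p V) :
    ∀ n : ℕ, ∀ M B : Subgroup G, M.Normal → B.Normal → IsPGroup p B → B ≤ M →
      Nat.card M + Nat.card B = n → (zE (Qe p) ((S : Subgroup G) ⊓ M) ⊓ B).Normal := by
  intro n
  induction n using Nat.strong_induction_on with
  | _ n ih =>
  intro M B hM hB hBp hBM hn
  -- notation
  obtain ⟨P, hP⟩ : ∃ P : Subgroup G, P = (S : Subgroup G) ⊓ M := ⟨_, rfl⟩
  rw [← hP]
  obtain ⟨Z, hZ⟩ : ∃ Z : Subgroup G, Z = zE (Qe p) P := ⟨_, rfl⟩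
  rw [← hZ]
  have hPS : P ≤ (S : Subgroup G) := by rw [hP]; exact inf_le_left
  have hBS : B ≤ (S : Subgroup G) := normal_pGroup_le_sylow hB hBp S
  have hBP : B ≤ P := by rw [hP]; exact le_inf hBS hBM
  have hSP : (S : Subgroup G) ≤ Subgroup.normalizer (P : Set G) := by
    rw [hP]; exact sylow_le_normalizer_inf_normal S M
  have hNZ : Subgroup.normalizer (P : Set G) ≤ Subgroup.normalizer (Z : Set G) := by
    rw [hZ]; exact normalizer_le_normalizer_zE (qe_map p) P
  have hBtop : ∀ g : G, g ∈ Subgroup.normalizer (B : Set G) := fun g => by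
    rw [Subgroup.normalizer_eq_top_iff.mpr hB]; trivial
  have hNZ₁ : Subgroup.normalizer (P : Set G) ≤ Subgroup.normalizer ((Z ⊓ B : Subgroup G) : Set G) :=
    fun g hg => mem_normalizer_inf (hNZ hg) (hBtop g)
  have hZP : Z ≤ P := by rw [hZ]; exact zE_le P
  have hZcomm : ∀ x ∈ Z, ∀ y ∈ Z, x * y = y * x := by rw [hZ]; exact zE_comm P
  by_cases hB0 : B = ⊥
  · rw [hB0, inf_bot_eq]; infer_instance
  -- reduce to `B = normalClosure (Z ⊓ B)`
  have hB₁le : Subgroup.normalClosure ((Z ⊓ B : Subgroup G) : Set G) ≤ B :=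
    Subgroup.normalClosure_le_normal (fun x hx => (Subgroup.mem_inf.mp hx).2)
  have hZ₁B₁ : Z ⊓ B ≤ Subgroup.normalClosure ((Z ⊓ B : Subgroup G) : Set G) :=
    Subgroup.le_normalClosure
  by_cases hB₁ : Subgroup.normalClosure ((Z ⊓ B : Subgroup G) : Set G) = B
  swap
  · have hlt : Subgroup.normalClosure ((Z ⊓ B : Subgroup G) : Set G) < B := lt_of_le_of_ne hB₁le hB₁
    have h1 := ih (Nat.card M + Nat.card (Subgroup.normalClosure ((Z ⊓ B : Subgroup G) : Set G)))
      (by rw [← hn]; exact Nat.add_lt_add_left (card_lt_of_lt hlt) _) M _ hM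
      Subgroup.normalClosure_normal (hBp.to_le hB₁le) (hB₁le.trans hBM) rfl
    rw [← hP, ← hZ] at h1
    have h2 : Z ⊓ Subgroup.normalClosure ((Z ⊓ B : Subgroup G) : Set G) = Z ⊓ B :=
      le_antisymm (inf_le_inf_left _ hB₁le) (le_inf inf_le_left hZ₁B₁)
    rw [← h2]; exact h1
  -- `Y = Z ⊓ B'` is normal
  have hB'lt : ⁅B, B⁆ < B := commutator_lt_of_isPGroup hBp hB0
  have hB'n : (⁅B, B⁆).Normal := inferInstance
  have hYn : (Z ⊓ ⁅B, B⁆).Normal := by
    have h1 := ih (Nat.card M + Nat.card (⁅B, B⁆ : Subgroup G))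
      (by rw [← hn]; exact Nat.add_lt_add_left (card_lt_of_lt hB'lt) _) M _ hM
      hB'n (hBp.to_le hB'lt.le) (hB'lt.le.trans hBM) rfl
    rw [← hP, ← hZ] at h1
    exact h1
  -- `[Z ⊓ B, B] ≤ Y`
  have hcomm : ⁅Z ⊓ B, B⁆ ≤ Z ⊓ ⁅B, B⁆ := by
    apply le_inf
    · rw [Subgroup.commutator_le]
      intro z hz b hb
      have hzZ : z ∈ Z := (Subgroup.mem_inf.mp hz).1
      have hbN : b ∈ Subgroup.normalizer (Z : Set G) := hNZ (hSP (hBS hb))
      have h1 : b * z⁻¹ * b⁻¹ ∈ Z := (Subgroup.mem_normalizer_iff.mp hbN z⁻¹).mp (inv_mem hzZ)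
      have h2 : ⁅z, b⁆ = z * (b * z⁻¹ * b⁻¹) := by
        rw [commutatorElement_def]; group
      rw [h2]; exact mul_mem hzZ h1
    · exact Subgroup.commutator_mono inf_le_right le_rfl
  -- hence `B' ≤ Z`
  have hB'Z : ⁅B, B⁆ ≤ Z := by
    have hTn : (sectionKernel B (Z ⊓ ⁅B, B⁆)).Normal := by
      unfold sectionKernel
      infer_instance
    have hmemT : ∀ g : G, g ∈ sectionKernel B (Z ⊓ ⁅B, B⁆) ↔
        ∀ b ∈ B, ⁅g⁻¹, b⁻¹⁆ ∈ Z ⊓ ⁅B, B⁆ := by
      intro g
      unfold sectionKernel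
      rw [Subgroup.mem_comap, Subgroup.mem_centralizer_iff]
      constructor
      · intro hg b hb
        have h1 := hg _ (Subgroup.mem_map_of_mem _ hb)
        rw [← map_mul, ← map_mul] at h1
        have h2 := QuotientGroup.eq.mp h1
        have h3 : (b * g)⁻¹ * (g * b) = ⁅g⁻¹, b⁻¹⁆ := by
          rw [commutatorElement_def]; group
        rwa [h3] at h2
      · rintro hg _ ⟨b, hb, rfl⟩
        rw [← map_mul, ← map_mul]
        apply QuotientGroup.eq.mpr
        have h3 : (b * g)⁻¹ * (g * b) = ⁅g⁻¹, b⁻¹⁆ := by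
          rw [commutatorElement_def]; group
        rw [h3]; exact hg b hb
    have hZ₁T : ((Z ⊓ B : Subgroup G) : Set G) ⊆ sectionKernel B (Z ⊓ ⁅B, B⁆) := by
      intro z hz
      rw [SetLike.mem_coe, hmemT]
      intro b hb
      apply hcomm
      exact Subgroup.commutator_mem_commutator (inv_mem hz) (inv_mem hb)
    have hBT : B ≤ sectionKernel B (Z ⊓ ⁅B, B⁆) :=
      le_of_eq_of_le hB₁.symm (Subgroup.normalClosure_le_normal hZ₁T)
    rw [Subgroup.commutator_le]
    intro b₁ hb₁ b₂ hb₂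
    have h1 := (hmemT b₁⁻¹).mp (hBT (inv_mem hb₁)) b₂⁻¹ (inv_mem hb₂)
    rw [inv_inv, inv_inv] at h1
    exact (Subgroup.mem_inf.mp h1).1
  -- `B` has class at most two
  have hcl2 : ∀ b ∈ B, ∀ c ∈ ⁅B, B⁆, b * c = c * b := by
    have hCn : (Subgroup.centralizer ((⁅B, B⁆ : Subgroup G) : Set G)).Normal := inferInstance
    have hsub : ((Z ⊓ B : Subgroup G) : Set G) ⊆
        Subgroup.centralizer ((⁅B, B⁆ : Subgroup G) : Set G) := by
      intro z hz
      rw [SetLike.mem_coe, Subgroup.mem_centralizer_iff]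
      intro c hc
      exact hZcomm c (hB'Z hc) z (Subgroup.mem_inf.mp hz).1
    have hle : B ≤ Subgroup.centralizer ((⁅B, B⁆ : Subgroup G) : Set G) :=
      le_of_eq_of_le hB₁.symm (Subgroup.normalClosure_le_normal hsub)
    intro b hb c hc
    have := hle hb
    rw [Subgroup.mem_centralizer_iff] at this
    exact (this c hc).symm
  -- the normal subgroup `K`
  have hCn : (Subgroup.centralizer (B : Set G)).Normal := inferInstance
  obtain ⟨K, hK⟩ : ∃ K : Subgroup G, K = (pCore p (G ⧸ Subgroup.centralizer (B : Set G))).comap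
    (QuotientGroup.mk' (Subgroup.centralizer (B : Set G))) := ⟨_, rfl⟩
  have hKn : K.Normal := by rw [hK]; infer_instance
  have hKsplit : ∀ l ∈ K, ∃ s ∈ (S : Subgroup G), s⁻¹ * l ∈ Subgroup.centralizer (B : Set G) := by
    intro l hl
    rw [hK] at hl
    exact exists_sylow_mul_of_mem_pCore_quotient S (Subgroup.centralizer (B : Set G)) (l := l) hl
  have hKnorm : K ≤ Subgroup.normalizer ((Z ⊓ B : Subgroup G) : Set G) := by
    intro l hl
    obtain ⟨s, hs, hc⟩ := hKsplit l hl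
    have h1 : s ∈ Subgroup.normalizer ((Z ⊓ B : Subgroup G) : Set G) := hNZ₁ (hSP hs)
    have h2 : s⁻¹ * l ∈ Subgroup.normalizer ((Z ⊓ B : Subgroup G) : Set G) := by
      apply Subgroup.centralizer_le_normalizer
      exact Subgroup.centralizer_le (fun x hx => (Subgroup.mem_inf.mp hx).2) hc
    have h3 := mul_mem h1 h2
    rwa [mul_inv_cancel_left] at h3
  have hBK : B ≤ K := by
    rw [hK, ← Subgroup.map_le_iff_le_comap]
    exact le_pCore (hB.map _ (QuotientGroup.mk'_surjective _)) (hBp.map _)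
  by_cases hMK : M ≤ K
  · -- all of `G = N_G(P) M` normalizes `Z ⊓ B`
    rw [← Subgroup.normalizer_eq_top_iff, eq_top_iff]
    have hfr : Subgroup.normalizer (P : Set G) ⊔ M = ⊤ := by rw [hP]; exact frattini_inf S M
    rw [← hfr]
    exact sup_le hNZ₁ (hMK.trans hKnorm)
  -- now `L = K ⊓ M < M`
  have hLn : (K ⊓ M).Normal := inferInstance
  have hLlt : K ⊓ M < M := lt_of_le_of_ne inf_le_right (fun heq => hMK (heq ▸ inf_le_left))
  obtain ⟨P₁, hP₁⟩ : ∃ P₁ : Subgroup G, P₁ = (S : Subgroup G) ⊓ (K ⊓ M) := ⟨_, rfl⟩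
  have hP₁P : P₁ ≤ P := by rw [hP₁, hP]; exact inf_le_inf_left _ inf_le_right
  have hBP₁ : B ≤ P₁ := by rw [hP₁]; exact le_inf hBS (le_inf hBK hBM)
  by_contra hnot
  -- the subgroup generated by the elements of order `p`
  obtain ⟨V, hV⟩ : ∃ V : Subgroup G, V = om p B := ⟨_, rfl⟩
  have hVB : V ≤ B := by rw [hV]; exact om_le p B
  have hVn : V.Normal := by rw [hV]; exact om_normal p B
  have hVp : IsPGroup p V := hBp.to_le hVB
  have hKV : (pCore p (G ⧸ Subgroup.centralizer (V : Set G))).comap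
      (QuotientGroup.mk' (Subgroup.centralizer (V : Set G))) ≤ K := by
    rw [hK]
    exact comap_pCore_om_le hp B hBp V (fun x hx hxp => by rw [hV]; exact mem_om hx hxp)
  have hVcomm : ∀ U ∈ famQ (Qe p) P, ⁅V, V⁆ ≤ U := by
    intro U hU
    rw [Subgroup.commutator_le]
    intro v hv w hw
    have hc1 : ⁅v, w⁆ ∈ ⁅B, B⁆ := Subgroup.commutator_mem_commutator (hVB hv) (hVB hw)
    apply mem_of_commute_of_pow hU (hBP (Subgroup.commutator_le_self B hc1))
    · intro u hu
      have hz : ⁅v, w⁆ ∈ zE (Qe p) P := by rw [← hZ]; exact hB'Z hc1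
      exact zE_comm_mem hU _ hz u hu
    · exact commutator_pow_eq_one_of_mem_om B hcl2 (hVB hw) v (by rw [← hV]; exact hv)
  obtain ⟨A₀, hA₀⟩ := famQ_nonempty (qe_bot p) P
  by_cases hall : ∀ U ∈ famQ (Qe p) P, U ≤ K
  · -- all members lie in `P₁`
    have hall' : ∀ U ∈ famQ (Qe p) P, U ≤ P₁ := by
      intro U hU
      rw [hP₁]
      exact le_inf (hU.1.trans hPS) (le_inf (hall U hU) (hU.1.trans (by rw [hP]; exact inf_le_right)))
    have hfam := famQ_eq_of_forall_le hP₁P ⟨A₀, hA₀⟩ hall'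
    have hZeq : zE (Qe p) P₁ = Z := by
      rw [hZ]
      unfold zE jE
      rw [hfam]
    apply hnot
    have h1 := ih (Nat.card (K ⊓ M : Subgroup G) + Nat.card B)
        (by rw [← hn]; exact Nat.add_lt_add_right (card_lt_of_lt hLlt) _) (K ⊓ M) B hLn hB hBp
        (le_inf hBK hBM) rfl
    rw [← hP₁, hZeq] at h1
    exact h1
  push Not at hall
  obtain ⟨U₀, hU₀, hU₀K⟩ := hall
  obtain ⟨A, hA, hAK, hor⟩ := replacement_restricted_in hp (S : Subgroup G) S.isPGroup' (Qe p)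
    (qe_comm p) (qe_star hp (S : Subgroup G) S.isPGroup') P V hPS (hVB.trans hBS) hSP
    (fun s _ => by rw [Subgroup.normalizer_eq_top_iff.mpr hVn]; trivial) hVcomm
    {U | ¬ U ≤ K} ⟨U₀, hU₀, hU₀K⟩
  have hAc := qe_comm p A hA.2.1
  have hnVA : ¬ V ≤ Subgroup.normalizer (A : Set G) := by
    intro hVA
    apply hAK
    intro a ha
    have hquad : QuadOn V a := by
      intro v hv
      have h1 : v * a * v⁻¹ ∈ A := (Subgroup.mem_normalizer_iff.mp (hVA hv) a).mp ha
      have h2 : ⁅v, a⁆ ∈ A := by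
        rw [commutatorElement_def]; exact mul_mem h1 (inv_mem ha)
      have h3 := Subgroup.le_centralizer_iff_isMulCommutative.mpr hAc ha _ h2
      exact h3.symm
    have h4 := hst V hVp a ((quadOn_iff V a).mp hquad)
    exact hKV h4
  rcases hor with hVA | ⟨A', hA', hA'K, hA'N⟩
  · exact hnVA hVA
  have hA'K' : A' ≤ K := by
    by_contra h
    exact hA'K h
  have hA'P₁ : A' ≤ P₁ := by
    rw [hP₁]
    exact le_inf (hA'.1.trans hPS) (le_inf hA'K' (hA'.1.trans (by rw [hP]; exact inf_le_right)))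
  have hA'fam : A' ∈ famQ (Qe p) P₁ := (famQ_subset_of_le hP₁P hA' hA'P₁).1
  -- the normal subgroup `B₂`
  obtain ⟨J₁, hJ₁⟩ : ∃ J₁ : Subgroup G, J₁ = jE (Qe p) P₁ := ⟨_, rfl⟩
  obtain ⟨B₂, hB₂⟩ : ∃ B₂ : Subgroup G, B₂ = B ⊓ Subgroup.centralizer (J₁ : Set G) := ⟨_, rfl⟩
  have hB₂B : B₂ ≤ B := by rw [hB₂]; exact inf_le_left
  have hNP₁ : Subgroup.normalizer (P₁ : Set G) ≤ Subgroup.normalizer (B₂ : Set G) := by
    intro g hg
    rw [hB₂]
    apply mem_normalizer_inf (hBtop g)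
    apply normalizer_le_normalizer_centralizer
    rw [hJ₁]
    exact normalizer_le_normalizer_jE (qe_map p) P₁ hg
  have hSP₁ : (S : Subgroup G) ≤ Subgroup.normalizer (P₁ : Set G) := by
    rw [hP₁]; exact sylow_le_normalizer_inf_normal S (K ⊓ M)
  have hB₂n : B₂.Normal := by
    rw [← Subgroup.normalizer_eq_top_iff, eq_top_iff]
    have hfr : Subgroup.normalizer (P₁ : Set G) ⊔ (K ⊓ M) = ⊤ := by
      rw [hP₁]; exact frattini_inf S (K ⊓ M)
    rw [← hfr]
    apply sup_le hNP₁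
    intro l hl
    obtain ⟨s, hs, hc⟩ := hKsplit l hl.1
    have h1 : s ∈ Subgroup.normalizer (B₂ : Set G) := hNP₁ (hSP₁ hs)
    have h2 : s⁻¹ * l ∈ Subgroup.normalizer (B₂ : Set G) := by
      apply Subgroup.centralizer_le_normalizer
      exact Subgroup.centralizer_le (fun x hx => hB₂B hx) hc
    have h3 := mul_mem h1 h2
    rwa [mul_inv_cancel_left] at h3
  have hJle : J₁ ≤ jE (Qe p) P := by
    rw [hJ₁]; exact jE_le_jE_of_le hP₁P hA' hA'P₁
  have hZB₂ : Z ⊓ B ≤ B₂ := by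
    intro z hz
    rw [hB₂]
    refine Subgroup.mem_inf.mpr ⟨(Subgroup.mem_inf.mp hz).2, ?_⟩
    have h1 : z ∈ Subgroup.centralizer (jE (Qe p) P : Set G) := by
      have := (Subgroup.mem_inf.mp hz).1
      rw [hZ] at this
      exact zE_le_centralizer P this
    exact Subgroup.centralizer_le (fun x hx => hJle hx) h1
  by_cases hB₂eq : B₂ = B
  · -- `V ≤ A'`
    apply hnVA
    refine le_trans ?_ hA'N
    rw [hV]
    unfold om
    rw [Subgroup.closure_le]
    rintro x ⟨hxB, hxp⟩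
    apply mem_of_commute_of_pow hA' (hBP hxB) ?_ hxp
    intro u hu
    have h1 : x ∈ Subgroup.centralizer (J₁ : Set G) := by
      have : x ∈ B₂ := by rw [hB₂eq]; exact hxB
      rw [hB₂] at this
      exact (Subgroup.mem_inf.mp this).2
    rw [Subgroup.mem_centralizer_iff] at h1
    have h2 : u ∈ J₁ := by rw [hJ₁]; exact le_jE hA'fam hu
    exact h1 u h2
  · apply hnot
    have hlt : B₂ < B := lt_of_le_of_ne hB₂B hB₂eq
    have h1 := ih (Nat.card M + Nat.card B₂)
      (by rw [← hn]; exact Nat.add_lt_add_left (card_lt_of_lt hlt) _) M B₂ hM hB₂n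
      (hBp.to_le hB₂B) (hB₂B.trans hBM) rfl
    rw [← hP, ← hZ] at h1
    have h2 : Z ⊓ B₂ = Z ⊓ B :=
      le_antisymm (inf_le_inf_left _ hB₂B) (le_inf inf_le_left hZB₂)
    rw [← h2]; exact h1

end Cfsg.Agent.Lib.Helper11.ZJe
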