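import Cfsg.Agent.Lib.Helper11.ZJe.Defs
import Cfsg.Agent.Lib.Helper11.ZJMap

set_option autoImplicit false
open Cfsg

/-!
# `jE` and `zE` under a homomorphism that is injective on `P`.
-/

namespace Cfsg.Agent.Lib.Helper11.ZJe

open Cfsg.Agent.Lib.Helper11

variable {G H : Type*} [Group G] [Group H]

theorem famQ_map_of_injOn (ι : G →* H) (P : Subgroup G)
    (hinj : ∀ x ∈ P, ι x = 1 → x = 1) (QG : Subgroup G → Prop) (QH : Subgroup H → Prop)
    (h1 : ∀ X : Subgroup G, X ≤ P → QG X → QH (X.map ι))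
    (h2 : ∀ X : Subgroup G, X ≤ P → QH (X.map ι) → QG X) :
    famQ QH (P.map ι) = (fun X : Subgroup G => X.map ι) '' famQ QG P := by
  ext X'
  constructor
  · rintro ⟨hX'P, hQX', hmax⟩
    have hmapX := map_comap_inf_eq ι P X' hX'P
    have hXP : X'.comap ι ⊓ P ≤ P := inf_le_right
    refine ⟨X'.comap ι ⊓ P, ⟨hXP, h2 _ hXP (by rw [hmapX]; exact hQX'), ?_⟩, hmapX⟩
    intro Y hYP hQY
    have := hmax (Y.map ι) (Subgroup.map_mono hYP) (h1 Y hYP hQY)
    rw [← hmapX, card_map_of_injOn ι P _ hinj hXP, card_map_of_injOn ι P Y hinj hYP] at this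
    exact this
  · rintro ⟨X, ⟨hXP, hQX, hmax⟩, rfl⟩
    refine ⟨Subgroup.map_mono hXP, h1 X hXP hQX, ?_⟩
    intro Y' hY' hQY'
    have hmapY := map_comap_inf_eq ι P Y' hY'
    have hYP : Y'.comap ι ⊓ P ≤ P := inf_le_right
    have hQY : QG (Y'.comap ι ⊓ P) := h2 _ hYP (by rw [hmapY]; exact hQY')
    have := hmax _ hYP hQY
    rw [← hmapY, card_map_of_injOn ι P _ hinj hYP, card_map_of_injOn ι P X hinj hXP]
    exact this

theorem jE_map_of_injOn (ι : G →* H) (P : Subgroup G)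
    (hinj : ∀ x ∈ P, ι x = 1 → x = 1) (QG : Subgroup G → Prop) (QH : Subgroup H → Prop)
    (h1 : ∀ X : Subgroup G, X ≤ P → QG X → QH (X.map ι))
    (h2 : ∀ X : Subgroup G, X ≤ P → QH (X.map ι) → QG X) :
    jE QH (P.map ι) = (jE QG P).map ι := by
  unfold jE
  rw [famQ_map_of_injOn ι P hinj QG QH h1 h2, sSup_image, sSup_eq_iSup, Subgroup.map_iSup]
  congr 1
  funext X
  rw [Subgroup.map_iSup]

theorem zE_map_of_injOn (ι : G →* H) (P : Subgroup G)
    (hinj : ∀ x ∈ P, ι x = 1 → x = 1) (QG : Subgroup G → Prop) (QH : Subgroup H → Prop)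
    (h1 : ∀ X : Subgroup G, X ≤ P → QG X → QH (X.map ι))
    (h2 : ∀ X : Subgroup G, X ≤ P → QH (X.map ι) → QG X) :
    zE QH (P.map ι) = (zE QG P).map ι := by
  unfold zE
  rw [jE_map_of_injOn ι P hinj QG QH h1 h2]
  ext w
  constructor
  · intro hw
    obtain ⟨hwJ, hc⟩ := Subgroup.mem_inf.mp hw
    obtain ⟨z, hz, rfl⟩ := hwJ
    refine ⟨z, Subgroup.mem_inf.mpr ⟨hz, ?_⟩, rfl⟩
    rw [Subgroup.mem_centralizer_iff]
    intro y hy
    rw [Subgroup.mem_centralizer_iff] at hc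
    have h3 := hc (ι y) (Subgroup.mem_map_of_mem ι hy)
    have hyP : y ∈ P := jE_le P hy
    have hzP : z ∈ P := jE_le P hz
    have h4 : ι ((z * y)⁻¹ * (y * z)) = 1 := by
      rw [map_mul, map_inv, map_mul, map_mul, h3, inv_mul_cancel]
    have h5 := hinj _ (P.mul_mem (P.inv_mem (P.mul_mem hzP hyP)) (P.mul_mem hyP hzP)) h4
    exact (inv_mul_eq_one.mp h5).symm
  · rintro ⟨z, hz, rfl⟩
    obtain ⟨hzJ, hzC⟩ := Subgroup.mem_inf.mp hz
    refine Subgroup.mem_inf.mpr ⟨Subgroup.mem_map_of_mem ι hzJ, ?_⟩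
    rw [Subgroup.mem_centralizer_iff]
    rintro _ ⟨y, hy, rfl⟩
    rw [Subgroup.mem_centralizer_iff] at hzC
    rw [← map_mul, ← map_mul, hzC y hy]

end Cfsg.Agent.Lib.Helper11.ZJe
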