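import Cfsg.Agent.Lib.Helper11.ZJe.Main
import Cfsg.Agent.Lib.Helper11.ZJe.Map
import Cfsg.Agent.S0654
import Cfsg.Agent.S3082

set_option autoImplicit false
set_option linter.unusedSectionVars false
set_option linter.style.haveILetI false
open Cfsg

/-!
# The ZJ-theorem for `Z(J_e(S))` and the associated functor
-/

namespace Cfsg.Agent.Lib.Helper11.ZJe

open Cfsg.Agent.Lib.Helper11
open scoped commutatorElement

universe u

section
variable {G : Type*} [Group G]

/-- Step 0: `Z(J_e(S)) ≤ O_p(G)` when `C_G(O_p(G)) ≤ O_p(G)`. -/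
theorem zE_le_pCore [Finite G] {p : ℕ} [Fact p.Prime] (S : Sylow p G)
    (hst : ∀ (V : Subgroup G) [V.Normal], IsPGroup p V → IsPStableOn p V)
    (hc : Subgroup.centralizer (pCore p G : Set G) ≤ pCore p G) :
    zE (Qe p) (S : Subgroup G) ≤ pCore p G := by
  have hVn : (pCore p G).Normal := inferInstance
  have hVp : IsPGroup p (pCore p G) := pCore_isPGroup p G
  have hVS : pCore p G ≤ (S : Subgroup G) := pCore_le_sylow S
  have hSN : (S : Subgroup G) ≤ Subgroup.normalizer (zE (Qe p) (S : Subgroup G) : Set G) :=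
    Subgroup.le_normalizer.trans (normalizer_le_normalizer_zE (qe_map p) _)
  have hCn : (Subgroup.centralizer (pCore p G : Set G)).Normal := inferInstance
  have hKS : (pCore p (G ⧸ Subgroup.centralizer (pCore p G : Set G))).comap
      (QuotientGroup.mk' (Subgroup.centralizer (pCore p G : Set G))) ≤ (S : Subgroup G) := by
    intro l hl
    obtain ⟨s, hs, hcl⟩ := exists_sylow_mul_of_mem_pCore_quotient S
      (Subgroup.centralizer (pCore p G : Set G)) (l := l) hl
    have h1 : s⁻¹ * l ∈ (S : Subgroup G) := hVS (hc hcl)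
    have h2 := mul_mem hs h1
    rwa [mul_inv_cancel_left] at h2
  have hKV : (pCore p (G ⧸ Subgroup.centralizer (pCore p G : Set G))).comap
      (QuotientGroup.mk' (Subgroup.centralizer (pCore p G : Set G))) ≤ pCore p G :=
    le_pCore inferInstance (S.isPGroup'.to_le hKS)
  intro z hz
  apply hKV
  have hquad : QuadOn (pCore p G) z := by
    intro v hv
    have h1 : v * z * v⁻¹ ∈ zE (Qe p) (S : Subgroup G) :=
      (Subgroup.mem_normalizer_iff.mp (hSN (hVS hv)) z).mp hz
    have h2 : ⁅v, z⁆ ∈ zE (Qe p) (S : Subgroup G) := by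
      rw [commutatorElement_def]; exact mul_mem h1 (inv_mem hz)
    exact zE_comm _ z hz _ h2
  exact hst (pCore p G) hVp z ((quadOn_iff _ z).mp hquad)

theorem zE_map_equiv [Finite G] (p : ℕ) (φ : G ≃* G) (P : Subgroup G) :
    zE (Qe p) (P.map φ.toMonoidHom) = (zE (Qe p) P).map φ.toMonoidHom := by
  apply zE_map_of_injOn φ.toMonoidHom P
    (fun x _ hx => φ.injective (by rw [map_one]; exact hx)) (Qe p) (Qe p)
  · intro X _ hX
    exact (isElementaryAbelian_map_of_injective p φ.toMonoidHom φ.injective X).mpr hX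
  · intro X _ hX
    exact (isElementaryAbelian_map_of_injective p φ.toMonoidHom φ.injective X).mp hX

/-- **The ZJ-theorem for the full centre of the elementary abelian Thompson subgroup.** -/
theorem zE_characteristic [Finite G] {p : ℕ} [Fact p.Prime] (hp : p ≠ 2) (S : Sylow p G)
    (hst : ∀ (V : Subgroup G) [V.Normal], IsPGroup p V → IsPStableOn p V)
    (hc : Subgroup.centralizer (pCore p G : Set G) ≤ pCore p G) :
    (zE (Qe p) (S : Subgroup G)).Characteristic := by
  have hnorm : (zE (Qe p) (S : Subgroup G)).Normal := by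
    have h1 := zje_key hp S hst _ ⊤ (pCore p G) inferInstance inferInstance (pCore_isPGroup p G)
      le_top rfl
    rw [inf_top_eq, inf_eq_left.mpr (zE_le_pCore S hst hc)] at h1
    exact h1
  rw [Subgroup.characteristic_iff_map_le]
  intro φ
  obtain ⟨g, hg⟩ := MulAction.exists_smul_eq G
    (S.mapSurjective (f := φ.toMonoidHom) φ.surjective) S
  have hg' : ((S : Subgroup G).map φ.toMonoidHom).map (MulAut.conj g).toMonoidHom =
      (S : Subgroup G) := congrArg Sylow.toSubgroup hg
  have h2 : ((zE (Qe p) (S : Subgroup G)).map φ.toMonoidHom).map (MulAut.conj g).toMonoidHom =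
      zE (Qe p) (S : Subgroup G) := by
    rw [← zE_map_equiv, ← zE_map_equiv, hg']
  intro w hw
  have h3 : g * w * g⁻¹ ∈ zE (Qe p) (S : Subgroup G) := by
    rw [← h2]; exact ⟨w, hw, rfl⟩
  have h4 := hnorm.conj_mem _ h3 g⁻¹
  have h5 : g⁻¹ * (g * w * g⁻¹) * g⁻¹⁻¹ = w := by group
  rwa [h5] at h4

/-- `Z(J_e(P))` in the sense of the statement library is `zE`. -/
theorem centerThompsonOf_eq_zE [Finite G] (p : ℕ) (P : Subgroup G) :
    centerThompsonOf p P = zE (Qe p) P := by
  have h1 : thompsonSubgroupOf p P = jE (Qe p) P := by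
    unfold thompsonSubgroupOf thompsonSubgroup jE Qe
    rw [Cfsg.Agent.S0654.famQ_eq_image, sSup_image, sSup_eq_iSup, Subgroup.map_iSup]
    congr 1
    funext X
    rw [Subgroup.map_iSup]
  unfold centerThompsonOf zE
  rw [h1]

/-- the Ω₁-version lies in the full centre -/
theorem zQ_le_zE (p : ℕ) (P : Subgroup G) (hne : (famQ (Qe p) P).Nonempty) :
    zQ (Qe p) P ≤ zE (Qe p) P := by
  intro x hx
  obtain ⟨A₀, hA₀⟩ := hne
  refine Subgroup.mem_inf.mpr ⟨le_jE hA₀ (zQ_le_of_mem hA₀ hx), ?_⟩
  have hle : jE (Qe p) P ≤ Subgroup.centralizer ({x} : Set G) := by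
    apply jE_le_of_forall
    intro A hA a ha
    rw [Subgroup.mem_centralizer_iff]
    intro y hy
    rw [Set.mem_singleton_iff] at hy
    rw [hy]
    have hxA : x ∈ A := zQ_le_of_mem hA hx
    exact (Subgroup.le_centralizer_iff_isMulCommutative.mpr (qe_comm p A hA.2.1) hxA a ha).symm
  rw [Subgroup.mem_centralizer_iff]
  intro y hy
  have := hle hy
  rw [Subgroup.mem_centralizer_iff] at this
  exact (this x rfl).symm

theorem zE_ne_bot [Finite G] {p : ℕ} [Fact p.Prime] {R : Subgroup G}
    (hR : IsPGroup p R) (hR1 : R ≠ ⊥) : zE (Qe p) R ≠ ⊥ := by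
  intro hbot
  apply Cfsg.Agent.S3082.zQ_ea_ne_bot hR hR1
  rw [eq_bot_iff, ← hbot]
  exact zQ_le_zE p R (famQ_nonempty (qe_bot p) R)

end

/-- the functor `Q ↦ Z(J_e(Q))` -/
def WZ (p : ℕ) (Q : Type u) [Group Q] : Subgroup Q := zE (Qe p) ⊤

theorem zE_map_ea {G H : Type*} [Group G] [Group H] (p : ℕ) (ι : G →* H)
    (hι : Function.Injective ι) (P : Subgroup G) :
    zE (Qe p) (P.map ι) = (zE (Qe p) P).map ι := by
  apply zE_map_of_injOn ι P (fun x _ hx => hι (by rw [map_one]; exact hx)) (Qe p) (Qe p)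
  · intro X _ hX
    exact (isElementaryAbelian_map_of_injective p ι hι X).mpr hX
  · intro X _ hX
    exact (isElementaryAbelian_map_of_injective p ι hι X).mp hX

theorem inducedFunctor_WZ {X : Type u} [Group X] [Finite X] (p : ℕ) (P : Subgroup X) :
    inducedFunctor (WZ p) P = centerThompsonOf p P := by
  rw [centerThompsonOf_eq_zE]
  unfold inducedFunctor WZ
  have h := zE_map_ea p P.subtype P.subtype_injective (⊤ : Subgroup ↥P)
  rw [← h, ← MonoidHom.range_eq_map, Subgroup.range_subtype]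

theorem isCharPFunctor_WZ (p : ℕ) [Fact p.Prime] : IsCharPFunctor.{u} p (WZ p) := by
  refine ⟨?_, ?_⟩
  · intro Q _ _ hQ hnt
    unfold WZ
    apply zE_ne_bot (p := p) (hQ.to_subgroup ⊤)
    exact (Subgroup.nontrivial_iff_ne_bot _).mp inferInstance
  · intro Q R _ _ _ _ φ
    unfold WZ
    have h := zE_map_ea p φ.toMonoidHom φ.injective (⊤ : Subgroup Q)
    rw [← h, Subgroup.map_top_of_surjective φ.toMonoidHom φ.surjective]

end Cfsg.Agent.Lib.Helper11.ZJe
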